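import Cfsg.Agent.Lib.DefectOne.PrincipalOne
import Cfsg.Agent.Lib.SmallCofactor.Basic
import Cfsg.Agent.Lib.Char.PRegular
import Cfsg.Agent.Lib.CharInt.Kazarin
import Cfsg.Agent.Lib.SmallSimple.Tools
import Cfsg.Agent.Lib.SmallSimple.ExceptionalDegree
import Cfsg.Agent.S4705

/-!
# The degree equation of the principal block at a prime of exponent one

With `e = |N(P) : C(P)|` there are `e - 1` signed degrees `Z ≡ 1 (mod p)` and `B = 1 + ∑ Z` up to sign
a degree, `B ≡ e (mod p)`, with `1 + ∑ Z² + B² ≤ |G|`.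
-/

set_option autoImplicit false
set_option linter.style.haveILetI false
set_option linter.unusedSectionVars false

namespace Cfsg.Agent.SmallSimple.Below3640

open Cfsg Cfsg.Agent

universe u

/-- The non-decreasing selections of `k` members of a list. -/
def combos : List ℤ → ℕ → List (List ℤ)
  | [], k => if k = 0 then [[]] else []
  | a :: l, k => (List.range (k + 1)).flatMap fun i => (combos l (k - i)).map (List.replicate i a ++ ·)

theorem exists_combo : ∀ (C : List ℤ) (k : ℕ) (s : Multiset ℤ), Multiset.card s = k → (∀ x ∈ s, x ∈ C) →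
    ∃ l ∈ combos C k, (l : Multiset ℤ) = s := by
  intro C
  induction C with
  | nil =>
    intro k s hk hs
    have h0 : s = 0 := Multiset.eq_zero_of_forall_notMem fun x hx => by simpa using hs x hx
    subst h0
    simp only [Multiset.card_zero] at hk
    subst hk
    exact ⟨[], by simp [combos], rfl⟩
  | cons a C ih =>
    intro k s hk hs
    have hsplit : Multiset.replicate (s.count a) a + s.filter (fun x => x ≠ a) = s := by
      rw [← Multiset.filter_eq' s a]
      exact Multiset.filter_add_not (p := fun x => x = a) s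
    have hle : s.count a ≤ k := hk ▸ Multiset.count_le_card a s
    obtain ⟨l, hl, hlt⟩ := ih (k - s.count a) (s.filter fun x => x ≠ a) (by
      have := congrArg Multiset.card hsplit
      rw [Multiset.card_add, Multiset.card_replicate, hk] at this
      omega) fun x hx => by
      obtain ⟨hxs, hxa⟩ := Multiset.mem_filter.1 hx
      exact (List.mem_cons.1 (hs x hxs)).resolve_left hxa
    refine ⟨List.replicate (s.count a) a ++ l, ?_, ?_⟩
    · rw [combos, List.mem_flatMap]
      exact ⟨s.count a, List.mem_range.2 (Nat.lt_succ_of_le hle), List.mem_map_of_mem hl⟩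
    · rw [← Multiset.coe_add, hlt, Multiset.coe_replicate, hsplit]

/-- A degree allowed in the principal block: not `p - 2` unless `p - 1` is a power of two. -/
def okDeg (p d : ℕ) : Bool :=
  decide (d ≠ p - 2 ∨ p ≤ 5) || (List.range p).any fun a => decide (2 ^ a = p - 1)

/-- The signed degrees congruent to one. -/
def cand (p m : ℕ) : List ℤ :=
  (((List.range (m + 1)).filter fun d => decide (2 ≤ d) && decide (m % d = 0) && decide (d * d < p * m) &&
    okDeg p d).flatMap fun d : ℕ => [((d : ℕ) : ℤ), -((d : ℕ) : ℤ)]).filter fun z => decide ((z - 1) % (p : ℤ) = 0)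

/-- The solutions of the degree equation for `|G| = p m` and `|N(P) : C(P)| = e`. -/
def degSols (p m e : ℕ) : List (List ℤ) :=
  (combos (cand p m) (e - 1)).filter fun l => decide (2 ≤ (1 + l.sum).natAbs) && decide (m % (1 + l.sum).natAbs = 0) &&
    okDeg p (1 + l.sum).natAbs && decide ((1 + l.sum - e) % (p : ℤ) = 0) &&
      decide (1 + (l.map fun z => z * z).sum + (1 + l.sum) * (1 + l.sum) ≤ ((p * m : ℕ) : ℤ))

variable {G : Type u} [Group G] [Finite G] [IsSimpleGroup G]

theorem perfect (hG : ¬ IsMulCommutative G) : commutator G = ⊤ := by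
  rcases (inferInstance : (commutator G).Normal).eq_bot_or_eq_top with h | h
  · exact absurd (isMulCommutative_iff.2 fun a b => commutatorElement_eq_one_iff_mul_comm.1 (by
      have := Subgroup.commutator_mem_commutator (Subgroup.mem_top a) (Subgroup.mem_top b)
      rwa [← commutator_def, h, Subgroup.mem_bot] at this)) hG
  · exact h

/-- Degree `p - 2` needs `p - 1` to be a power of two. -/
theorem okDeg_degree (hG : ¬ IsMulCommutative G) {p m : ℕ} [hp : Fact p.Prime] (hn : Nat.card G = p * m)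
    (hm : ¬ p ∣ m) (P : Sylow p G) {χ : IrrCharacter G} (hne : χ ≠ Char.trivialChar G) :
    okDeg p (Char.degree χ) = true := by
  haveI := Fintype.ofFinite G
  simp only [okDeg, Bool.or_eq_true, decide_eq_true_eq, List.any_eq_true, List.mem_range]
  refine or_iff_not_imp_left.2 fun h => ?_
  push Not at h
  have hP : Nat.card (P : Subgroup G) = p := by
    rw [card_sylow_subgroup (k := 1) (m := m) (by rw [pow_one, hn]) hm P, pow_one]
  obtain ⟨a, _, _, _, hpa, -, -⟩ := Cfsg.Agent.S4705.result p h.2 P hP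
    (fun hN => normalizer_ne_top hG (H := (P : Subgroup G))
      (fun hb => by rw [hb, Subgroup.card_bot] at hP; exact hp.out.one_lt.ne hP)
      (by haveI := P.isPGroup'.isNilpotent; infer_instance) (Subgroup.normalizer_eq_top_iff.2 hN))
    χ.1 χ.2 (fun g hg => SmallCofactor.eq_one_of_apply_eq hG hne hg)
    (by rw [Char.charDegree_eq_degree]; exact h.1)
  refine ⟨a, ?_, by omega⟩
  have := Nat.lt_two_pow_self (n := a)
  omega

/-- The data behind a solution of the degree equation, keeping the values at `p`-regular elements. -/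
theorem exists_degSol (hG : ¬ IsMulCommutative G) {p m e : ℕ} [hp : Fact p.Prime] (hn : Nat.card G = p * m)
    (hm : ¬ p ∣ m) (he : 2 ≤ e) {P : Sylow p G}
    (hrel : (Subgroup.centralizer ((P : Subgroup G) : Set G)).relIndex
      (Subgroup.normalizer ((P : Subgroup G) : Set G)) = e)
    {M : Ideal AlgInt} [M.IsMaximal] (hpM : (p : AlgInt) ∈ M) [Fintype G] :
    ∃ (T : Finset (IrrCharacter G)) (z : IrrCharacter G → ℤ),
      T.card = e - 1 ∧ (∀ χ ∈ T, χ ≠ Char.trivialChar G ∧ χ ∈ principalBlock M G ∧ (z χ = 1 ∨ z χ = -1) ∧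
        (e + 1 ≠ p → ∀ y : (P : Subgroup G), y ≠ 1 → χ.1 y = z χ)) ∧
      (∃ θ : IrrCharacter G, θ ∉ T ∧ θ ≠ Char.trivialChar G ∧ θ ∈ principalBlock M G ∧ ∃ σ : ℤ, (σ = 1 ∨ σ = -1) ∧
        ∀ g, IsPRegular p g → (σ : ℂ) * θ.1 g = 1 + ∑ χ ∈ T, (z χ : ℂ) * χ.1 g) ∧
      ∃ l ∈ degSols p m e, (l : Multiset ℤ) = T.val.map fun χ => z χ * (Char.degree χ : ℤ) := by
  classical
  have hP : Nat.card P = p := by
    show Nat.card (P : Subgroup G) = p
    rw [card_sylow_subgroup (k := 1) (m := m) (by rw [pow_one, hn]) hm P, pow_one]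
  obtain ⟨S⟩ := DefectOne.primeShape hpM (P := P) hP (M := M) hrel
  have hp1 : 1 < p := hp.out.one_lt
  have hep : e ≤ p - 1 := Nat.le_of_dvd (by omega) S.m_dvd
  have hY0 : 0 < S.Y.card := by rw [S.cardY]; exact Nat.div_pos hep (by omega)
  obtain ⟨θ₀, hθ₀⟩ := Finset.card_pos.1 hY0
  have hreg : IsPRegular p (1 : G) := by simp [IsPRegular, hp.out.ne_one]
  obtain ⟨y₀, hy₀P, -, hy₀⟩ := DefectOne.exists_gen (P := P) hP
  have hy1 : (⟨y₀, hy₀P⟩ : (P : Subgroup G)) ≠ 1 := fun h => by
    rw [show y₀ = 1 from congrArg Subtype.val h, orderOf_one] at hy₀; omega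
  have htB : Char.trivialChar G ∈ principalBlock M G := Blocks.trivial_mem_principalBlock
  have hB : ∀ χ, χ ∈ S.X ∨ χ ∈ S.Y → χ ∈ principalBlock M G := fun χ h => by rw [S.union]; exact h
  -- normalise: `trivial ∈ X'`, `θ` outside, all signed degrees congruent to one
  obtain ⟨X', θ, z, σ, hXc, htX, hzt, hθX, hθB, hz, hσ, hXB, hrelg, hdeg, hθdeg, hval⟩ :
      ∃ (X' : Finset (IrrCharacter G)) (θ : IrrCharacter G) (z : IrrCharacter G → ℤ) (σ : ℤ),
        X'.card = e ∧ Char.trivialChar G ∈ X' ∧ z (Char.trivialChar G) = 1 ∧ θ ∉ X' ∧ θ ∈ principalBlock M G ∧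
        (∀ χ ∈ X', z χ = 1 ∨ z χ = -1) ∧ (σ = 1 ∨ σ = -1) ∧ (∀ χ ∈ X', χ ∈ principalBlock M G) ∧
        (∀ g, IsPRegular p g → (σ : ℂ) * θ.1 g = ∑ χ ∈ X', (z χ : ℂ) * χ.1 g) ∧
        (∀ χ ∈ X', (Char.degree χ : ℤ) ≡ z χ [ZMOD p]) ∧ ((Char.degree θ : ℤ) ≡ σ * e [ZMOD p]) ∧
        (e + 1 ≠ p → ∀ χ ∈ X', ∀ y : (P : Subgroup G), y ≠ 1 → χ.1 y = z χ) := by
    rw [S.union] at htB
    rcases htB with htX | htY
    · refine ⟨S.X, θ₀, S.εX, S.ε, S.cardX, htX, ?_, fun h => Finset.disjoint_left.1 S.disj h hθ₀,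
        hB _ (Or.inr hθ₀), S.hεX, S.hε, fun χ h => hB χ (Or.inl h), S.relation θ₀ hθ₀,
        fun χ h => by rw [← Char.charDegree_eq_degree]; exact S.X_deg χ h,
        by rw [← Char.charDegree_eq_degree]; exact S.Y_deg θ₀ hθ₀, fun _ => S.X_val⟩
      have := S.X_val _ htX ⟨y₀, hy₀P⟩ hy1
      rw [Char.trivialChar_apply] at this
      exact_mod_cast this.symm
    · have hmod := S.Y_deg _ htY
      rw [Char.charDegree_eq_degree, show Char.degree (Char.trivialChar G) = 1 by
        apply Nat.cast_injective (R := ℂ); rw [← Char.apply_one_eq_degree, Char.trivialChar_apply, Nat.cast_one]]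
        at hmod
      obtain ⟨he1, hε⟩ : e + 1 = p ∧ S.ε = -1 := by
        rcases S.hε with h | h <;> rw [h, Int.modEq_iff_dvd] at hmod <;> obtain ⟨c, hc⟩ := hmod
        · exfalso
          push_cast at hc
          rcases lt_trichotomy c 0 with h0 | h0 | h0
          · nlinarith [show ((e : ℤ)) ≥ 2 by exact_mod_cast he, show (p : ℤ) ≥ 2 by exact_mod_cast hp1]
          · subst h0; omega
          · have : (p : ℤ) * c ≥ p := le_mul_of_one_le_right (by omega) h0
            omega
        · refine ⟨?_, h⟩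
          push_cast at hc
          rcases lt_trichotomy c (-1) with h0 | h0 | h0
          · have : (p : ℤ) * c ≤ p * (-2) := mul_le_mul_of_nonneg_left (by omega) (by omega)
            omega
          · subst h0; omega
          · have : (0 : ℤ) ≤ p * c := mul_nonneg (by omega) (by omega)
            omega
      have hYc : S.Y.card = 1 := by
        rw [S.cardY, show p - 1 = e by omega, Nat.div_self (by omega)]
      obtain ⟨χ₀, hχ₀⟩ := Finset.card_pos.1 (show 0 < S.X.card by rw [S.cardX]; omega)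
      have hne : Char.trivialChar G ≠ χ₀ := fun h => Finset.disjoint_left.1 S.disj hχ₀ (h ▸ htY)
      have htX : Char.trivialChar G ∉ S.X := fun h => Finset.disjoint_left.1 S.disj h htY
      have hif : ∀ χ ∈ S.X, (fun η => if η = Char.trivialChar G then (1 : ℤ) else S.εX η) χ = S.εX χ :=
        fun χ hχ => if_neg fun (h' : χ = Char.trivialChar G) => htX (h' ▸ hχ)
      refine ⟨insert (Char.trivialChar G) (S.X.erase χ₀), χ₀,
        fun η => if η = Char.trivialChar G then (1 : ℤ) else S.εX η, -S.εX χ₀, ?_, Finset.mem_insert_self _ _,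
        if_pos rfl, by simp [Ne.symm hne], hB _ (Or.inl hχ₀), ?_, ?_, ?_, ?_, ?_, ?_, fun h => absurd he1 h⟩
      · rw [Finset.card_insert_of_notMem (fun h => htX (Finset.mem_of_mem_erase h)),
          Finset.card_erase_of_mem hχ₀, S.cardX]
        omega
      · intro χ hχ
        rcases Finset.mem_insert.1 hχ with rfl | h
        · simp
        · rw [hif χ (Finset.mem_of_mem_erase h)]
          exact S.hεX χ (Finset.mem_of_mem_erase h)
      · rcases S.hεX χ₀ hχ₀ with h | h <;> simp [h]
      · intro χ hχ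
        rcases Finset.mem_insert.1 hχ with rfl | h
        · exact hB _ (Or.inr htY)
        · exact hB _ (Or.inl (Finset.mem_of_mem_erase h))
      · intro g hg
        have h := S.relation _ htY g hg
        rw [← Finset.add_sum_erase _ _ hχ₀, hε, Char.trivialChar_apply] at h
        rw [Finset.sum_insert fun h' => htX (Finset.mem_of_mem_erase h'), Char.trivialChar_apply,
          Finset.sum_congr rfl fun χ hχ => by rw [hif χ (Finset.mem_of_mem_erase hχ)]]
        simp only [if_true]
        push_cast at h ⊢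
        linear_combination h
      · intro χ hχ
        rcases Finset.mem_insert.1 hχ with rfl | h
        · simp only [if_true]
          have : Char.degree (Char.trivialChar G) = 1 := by
            apply Nat.cast_injective (R := ℂ); rw [← Char.apply_one_eq_degree, Char.trivialChar_apply, Nat.cast_one]
          rw [this]; rfl
        · rw [hif χ (Finset.mem_of_mem_erase h), ← Char.charDegree_eq_degree]
          exact S.X_deg χ (Finset.mem_of_mem_erase h)
      · have h := S.X_deg χ₀ hχ₀
        rw [Char.charDegree_eq_degree, Int.modEq_iff_dvd] at h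
        rw [Int.modEq_iff_dvd, show (e : ℤ) = p - 1 by omega]
        obtain ⟨c, hc⟩ := h
        refine ⟨c - S.εX χ₀, ?_⟩
        linear_combination hc
  set T := X'.erase (Char.trivialChar G) with hTdef
  have hrelT : ∀ g, IsPRegular p g → (σ : ℂ) * θ.1 g = 1 + ∑ χ ∈ T, (z χ : ℂ) * χ.1 g := fun g hg => by
    rw [hrelg g hg, ← Finset.add_sum_erase _ _ htX, hzt, Char.trivialChar_apply, hTdef]
    simp
  have hθt : θ ≠ Char.trivialChar G := fun h => hθX (h ▸ htX)
  refine ⟨T, z, by rw [hTdef, Finset.card_erase_of_mem htX, hXc],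
    fun χ hχ => ⟨Finset.ne_of_mem_erase hχ, hXB χ (Finset.mem_of_mem_erase hχ),
      hz χ (Finset.mem_of_mem_erase hχ), fun h => hval h χ (Finset.mem_of_mem_erase hχ)⟩,
    ⟨θ, fun h => hθX (Finset.mem_of_mem_erase h), hθt, hθB, σ, hσ, hrelT⟩, ?_⟩
  set Z : Multiset ℤ := T.val.map fun χ => z χ * (Char.degree χ : ℤ) with hZ
  have hsq : ∀ S' : Finset (IrrCharacter G), ∑ χ ∈ S', Char.degree χ ^ 2 ≤ p * m := fun S' => by
    rw [← hn, ← Char.sum_degree_sq]
    exact Finset.sum_le_sum_of_subset (Finset.subset_univ _)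
  have hcop : ∀ (χ : IrrCharacter G) (a : ℤ), ¬ (p : ℤ) ∣ a → (Char.degree χ : ℤ) ≡ a [ZMOD p] →
      Char.degree χ ∣ m := fun χ a ha h => by
    have hd : Char.degree χ ∣ p * m := hn ▸ Char.degree_dvd_natCard χ
    refine ((hp.out.coprime_iff_not_dvd.2 fun h' => ha ?_).symm).dvd_of_dvd_mul_left hd
    have h1 : (p : ℤ) ∣ (Char.degree χ : ℤ) := by exact_mod_cast h'
    have h2 := Int.modEq_iff_dvd.1 h
    simpa using dvd_add h2 h1
  have hp0 : ∀ s : ℤ, (s = 1 ∨ s = -1) → ¬ (p : ℤ) ∣ s := fun s hs h => by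
    have h1 : (p : ℤ) ∣ 1 := by
      rcases hs with rfl | rfl
      · exact h
      · exact dvd_neg.1 h
    exact hp.out.not_dvd_one (by exact_mod_cast h1)
  have hmem : ∀ x ∈ Z, x ∈ cand p m := by
    intro x hx
    obtain ⟨χ, hχ, rfl⟩ := Multiset.mem_map.1 hx
    obtain ⟨hne, hX⟩ := Finset.mem_erase.1 (show χ ∈ T from hχ)
    have hs := hz χ hX
    have hd := hdeg χ hX
    have hdm := hcop χ _ (hp0 _ hs) hd
    have h2 : 2 ≤ Char.degree χ := by
      have := Char.degree_pos χ
      by_contra hc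
      exact hne (eq_trivialChar_of_degree_one hG χ (by
        rw [Char.apply_one_eq_degree, show Char.degree χ = 1 by omega, Nat.cast_one]))
    have hlt : Char.degree χ * Char.degree χ < p * m := by
      have h := hsq {χ, Char.trivialChar G}
      rw [Finset.sum_pair hne] at h
      have := Char.degree_pos (Char.trivialChar G)
      nlinarith
    simp only [cand, List.mem_filter, List.mem_flatMap, List.mem_range, Bool.and_eq_true, decide_eq_true_eq,
      List.mem_cons, List.not_mem_nil, or_false]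
    refine ⟨⟨Char.degree χ, ⟨Nat.lt_succ_of_le (Nat.le_of_dvd ?_ hdm), ⟨⟨h2, Nat.mod_eq_zero_of_dvd hdm⟩,
      hlt⟩, okDeg_degree hG hn hm P hne⟩, ?_⟩, ?_⟩
    · exact Nat.pos_of_ne_zero fun (h : m = 0) => hm (h.symm ▸ dvd_zero p)
    · rcases hs with h | h <;> simp [h]
    · apply Int.emod_eq_zero_of_dvd
      rw [Int.modEq_iff_dvd] at hd
      rcases hs with h | h <;> rw [h] at hd ⊢
      · rw [dvd_sub_comm]; simpa using hd
      · rw [show (-1 : ℤ) * (Char.degree χ : ℤ) - 1 = -1 - (Char.degree χ : ℤ) by ring]; exact hd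
  obtain ⟨l, hl, hlZ⟩ := exists_combo (cand p m) (e - 1) Z
    (by rw [hZ, Multiset.card_map, Finset.card_val, hTdef, Finset.card_erase_of_mem htX, hXc]) hmem
  refine ⟨l, ?_, hlZ⟩
  have hlsum : l.sum = ∑ χ ∈ T, z χ * (Char.degree χ : ℤ) := by
    rw [← Multiset.sum_coe, hlZ, hZ]; rfl
  have hlsq : (l.map fun a => a * a).sum = ∑ χ ∈ T, ((Char.degree χ ^ 2 : ℕ) : ℤ) := by
    rw [← Multiset.sum_coe, ← Multiset.map_coe, hlZ, hZ, Multiset.map_map]
    refine Finset.sum_congr rfl fun χ hχ => ?_
    rcases hz χ (Finset.mem_of_mem_erase hχ) with h | h <;> simp [h, pow_two]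
  have hB1 : 1 + l.sum = σ * (Char.degree θ : ℤ) := by
    have h := hrelT 1 hreg
    simp only [Char.apply_one_eq_degree] at h
    rw [hlsum]
    exact_mod_cast h.symm
  have habs : (1 + l.sum).natAbs = Char.degree θ := by
    rw [hB1, Int.natAbs_mul]
    rcases hσ with h | h <;> simp [h]
  have hdθ : Char.degree θ ∣ m := hcop θ _ (fun h => by
    have h2 : (p : ℤ) ∣ (e : ℤ) := by
      rcases hσ with rfl | rfl
      · simpa using h
      · simpa using h
    have := Nat.le_of_dvd (by omega) (Int.natCast_dvd_natCast.1 h2)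
    omega) hθdeg
  simp only [degSols, List.mem_filter, Bool.and_eq_true, decide_eq_true_eq]
  refine ⟨hl, ⟨⟨⟨?_, ?_⟩, ?_⟩, ?_⟩, ?_⟩
  · rw [habs]
    have := Char.degree_pos θ
    by_contra hc
    exact hθt (eq_trivialChar_of_degree_one hG θ (by
      rw [Char.apply_one_eq_degree, show Char.degree θ = 1 by omega, Nat.cast_one]))
  · rw [habs]; exact Nat.mod_eq_zero_of_dvd hdθ
  · rw [habs]; exact okDeg_degree hG hn hm P hθt
  · rw [hB1]
    apply Int.emod_eq_zero_of_dvd
    rw [dvd_sub_comm]
    rcases hσ with rfl | rfl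
    · simpa using Int.modEq_iff_dvd.1 hθdeg
    · have := Int.modEq_iff_dvd.1 hθdeg
      rw [show (e : ℤ) - (-1) * (Char.degree θ : ℤ) = -((-1) * (e : ℤ) - Char.degree θ) by ring]
      exact dvd_neg.2 this
  · have h := hsq (insert θ (insert (Char.trivialChar G) T))
    rw [Finset.sum_insert (by
        simp only [Finset.mem_insert, not_or]
        exact ⟨hθt, fun h => hθX (Finset.mem_of_mem_erase h)⟩),
      Finset.sum_insert (by simp [hTdef])] at h
    have h1 : 1 ≤ Char.degree (Char.trivialChar G) ^ 2 := Nat.one_le_pow _ _ (Char.degree_pos _)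
    rw [hlsq, ← Nat.cast_sum, hB1, show σ * (Char.degree θ : ℤ) * (σ * (Char.degree θ : ℤ)) =
      ((Char.degree θ ^ 2 : ℕ) : ℤ) by rcases hσ with rfl | rfl <;> push_cast <;> ring]
    omega

/-- The order dies when the degree equation has no solution. -/
theorem false_of_degSols (hG : ¬ IsMulCommutative G) {p m e : ℕ} [hp : Fact p.Prime] (hn : Nat.card G = p * m)
    (hm : ¬ p ∣ m) (he : 2 ≤ e) (P : Sylow p G)
    (hrel : (Subgroup.centralizer ((P : Subgroup G) : Set G)).relIndex
      (Subgroup.normalizer ((P : Subgroup G) : Set G)) = e)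
    (h : degSols p m e = []) : False := by
  haveI := Fintype.ofFinite G
  obtain ⟨M, hM⟩ := CharInt.exists_isPModular_of_prime hp.out
  haveI := hM.2.1
  obtain ⟨T, z, -, -, -, l, hl, -⟩ := exists_degSol hG hn hm he hrel hM.2.2
  rw [h] at hl
  exact List.not_mem_nil hl

end Cfsg.Agent.SmallSimple.Below3640
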