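import Cfsg.Agent.Lib.SmallSimple.Below3640.DegreeTest
import Cfsg.Agent.Lib.SmallSimple.Below6233.CasesB
import Cfsg.Agent.Lib.SmallSimple.FiveCases
import Cfsg.Agent.S1001
import Cfsg.Agent.S1010

/-!
# Orders up to 3640 killed by the degree equation or by self-centralising
-/

set_option autoImplicit false
set_option linter.style.haveILetI false
set_option linter.unusedSectionVars false

namespace Cfsg.Agent.SmallSimple.Below3640

open Subgroup Below6233

universe u

variable {G : Type u} [Group G] [Finite G] [IsSimpleGroup G]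

theorem relIndex_eq {p c e : ℕ} (P : Subgroup G) (hp : 0 < p * c)
    (hC : Nat.card (centralizer (P : Set G)) = p * c)
    (hN : Nat.card (normalizer (P : Set G)) = p * c * e) :
    (centralizer (P : Set G)).relIndex (normalizer (P : Set G)) = e := by
  have h := Subgroup.card_mul_index ((centralizer (P : Set G)).subgroupOf (normalizer (P : Set G)))
  rw [Nat.card_congr (subgroupOfEquivOfLe (centralizer_le_normalizer P)).toEquiv, hC, hN] at h
  exact Nat.eq_of_mul_eq_mul_left hp h

/-- An order dies at `p` when every option leaves no solution of the degree equation. -/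
theorem false_of_prime (hG : ¬ IsMulCommutative G) (p n m : ℕ) (hp : p.Prime) (hp2 : Odd p)
    (hn : Nat.card G = n) (hnm : n = p * m) (hm : ¬ p ∣ m)
    (h : ∀ o ∈ opts p n m, n = o.1 * (p * o.2 * (n / o.1 / (p * o.2))) ∧ 2 ≤ n / o.1 / (p * o.2) ∧
      degSols p m (n / o.1 / (p * o.2)) = []) : False := by
  haveI := Fact.mk hp
  obtain ⟨P⟩ := (inferInstance : Nonempty (Sylow p G))
  obtain ⟨d, c, hmem, -, hC, hN, -⟩ := exists_opt hG hp2 hn hnm hm P
  obtain ⟨h1, h2, h3⟩ := h _ hmem
  set e := n / d / (p * c)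
  have hd : 0 < d := Nat.pos_of_ne_zero fun h0 => by
    rw [h0, zero_mul] at hN; rw [← hN] at hn; exact Nat.card_pos.ne' hn
  refine false_of_degSols hG (hn.trans hnm) hm h2 P (relIndex_eq _ ?_ hC ?_) h3
  · rw [← hC]; exact Nat.card_pos
  · exact Nat.eq_of_mul_eq_mul_left hd (hN.trans h1)

theorem card_ne_1224 (hG : ¬ IsMulCommutative G) : Nat.card G ≠ 1224 := fun hn =>
  false_of_prime hG 17 1224 72 (by norm_num) (by decide) hn (by norm_num) (by norm_num) (by decide +kernel)

theorem card_ne_1320 (hG : ¬ IsMulCommutative G) : Nat.card G ≠ 1320 := fun hn =>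
  false_of_prime hG 11 1320 120 (by norm_num) (by decide) hn (by norm_num) (by norm_num) (by decide +kernel)

theorem card_ne_1560 (hG : ¬ IsMulCommutative G) : Nat.card G ≠ 1560 := fun hn =>
  false_of_prime hG 13 1560 120 (by norm_num) (by decide) hn (by norm_num) (by norm_num) (by decide +kernel)

theorem card_ne_1716 (hG : ¬ IsMulCommutative G) : Nat.card G ≠ 1716 := fun hn =>
  false_of_prime hG 13 1716 132 (by norm_num) (by decide) hn (by norm_num) (by norm_num) (by decide +kernel)

theorem card_ne_1980 (hG : ¬ IsMulCommutative G) : Nat.card G ≠ 1980 := fun hn =>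
  false_of_prime hG 11 1980 180 (by norm_num) (by decide) hn (by norm_num) (by norm_num) (by decide +kernel)

theorem card_ne_2184 (hG : ¬ IsMulCommutative G) : Nat.card G ≠ 2184 := fun hn =>
  false_of_prime hG 13 2184 168 (by norm_num) (by decide) hn (by norm_num) (by norm_num) (by decide +kernel)

theorem card_ne_2280 (hG : ¬ IsMulCommutative G) : Nat.card G ≠ 2280 := fun hn =>
  false_of_prime hG 19 2280 120 (by norm_num) (by decide) hn (by norm_num) (by norm_num) (by decide +kernel)

theorem card_ne_3120 (hG : ¬ IsMulCommutative G) : Nat.card G ≠ 3120 := fun hn =>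
  false_of_prime hG 13 3120 240 (by norm_num) (by decide) hn (by norm_num) (by norm_num) (by decide +kernel)

theorem card_ne_3168 (hG : ¬ IsMulCommutative G) : Nat.card G ≠ 3168 := fun hn =>
  false_of_prime hG 11 3168 288 (by norm_num) (by decide) hn (by norm_num) (by norm_num) (by decide +kernel)

theorem card_ne_3432 (hG : ¬ IsMulCommutative G) : Nat.card G ≠ 3432 := fun hn =>
  false_of_prime hG 13 3432 264 (by norm_num) (by decide) hn (by norm_num) (by norm_num) (by decide +kernel)

theorem card_ne_3444 (hG : ¬ IsMulCommutative G) : Nat.card G ≠ 3444 := fun hn =>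
  false_of_prime hG 41 3444 84 (by norm_num) (by decide) hn (by norm_num) (by norm_num) (by decide +kernel)

theorem card_ne_3480 (hG : ¬ IsMulCommutative G) : Nat.card G ≠ 3480 := fun hn =>
  false_of_prime hG 29 3480 120 (by norm_num) (by decide) hn (by norm_num) (by norm_num) (by decide +kernel)

/-- For order `p 3 ^ a 2 ^ b` every option has `c = 1`. -/
theorem cofactor_eq_one {p a b c : ℕ} [hp : Fact p.Prime] (hn : Nat.card G = p * 3 ^ a * 2 ^ b) (P : Sylow p G)
    (hP : Nat.card (P : Subgroup G) = p)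
    (hC : Nat.card (centralizer ((P : Subgroup G) : Set G)) = p * c) : c = 1 := by
  obtain ⟨y, hyP, hy⟩ := exists_order (H := (P : Subgroup G)) hP.symm.dvd
  have h := Cfsg.Agent.S1001.result p a b hp.out hn y hy
  have hle : centralizer ((P : Subgroup G) : Set G) ≤ zpowers y := by
    rw [← h]
    intro g hg
    exact mem_centralizer_singleton_iff.2 (hg y hyP).symm
  have h1 := Nat.le_of_dvd Nat.card_pos (Subgroup.card_dvd_of_le hle)
  rw [hC, Nat.card_zpowers, hy] at h1
  have h0 : 0 < p * c := hC ▸ Nat.card_pos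
  have := hp.out.pos
  rcases c with _ | _ | c
  · simp at h0
  · rfl
  · nlinarith

theorem false_of_all_big (hG : ¬ IsMulCommutative G) (p n a b : ℕ) (hp : p.Prime) (hp2 : Odd p)
    (hn : Nat.card G = n) (hnm : n = p * (3 ^ a * 2 ^ b)) (hm : ¬ p ∣ 3 ^ a * 2 ^ b)
    (h : ∀ o ∈ opts p n (3 ^ a * 2 ^ b), o.2 ≠ 1) : False := by
  haveI := Fact.mk hp
  obtain ⟨P⟩ := (inferInstance : Nonempty (Sylow p G))
  obtain ⟨d, c, hmem, -, hC, -, hP⟩ := exists_opt hG hp2 hn hnm hm P
  exact h _ hmem (cofactor_eq_one (by rw [hn, hnm, mul_assoc]) P hP hC)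

theorem card_ne_2880 (hG : ¬ IsMulCommutative G) : Nat.card G ≠ 2880 := fun hn =>
  false_of_all_big hG 5 2880 2 6 (by norm_num) (by decide) hn (by norm_num) (by norm_num) (by decide +kernel)

theorem card_ne_3024 (hG : ¬ IsMulCommutative G) : Nat.card G ≠ 3024 := fun hn =>
  false_of_all_big hG 7 3024 3 4 (by norm_num) (by decide) hn (by norm_num) (by norm_num) (by decide +kernel)

theorem card_ne_3240 (hG : ¬ IsMulCommutative G) : Nat.card G ≠ 3240 := fun hn =>
  false_of_all_big hG 5 3240 4 3 (by norm_num) (by decide) hn (by norm_num) (by norm_num) (by decide +kernel)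

/-- The numerical test of `FivePairs.false_of_index_two`. -/
def checkTwo (n k T : ℕ) (L : List ℤ) (cs : List ℕ) : Bool :=
  L.all fun Z => decide (n % (1 + Z).natAbs ≠ 0) || cs.all fun c => decide (c % T ≠ 0) ||
    (List.range (k + 1)).all fun j => (List.range (2 * Z.natAbs + 1)).all fun w =>
      decide ((Z - ((w : ℤ) - Z.natAbs)) % 2 ≠ 0) || decide (¬ ((w : ℤ) - Z.natAbs).natAbs < Z.natAbs) ||
        decide ((k : ℤ) * n * (Z - ((w : ℤ) - Z.natAbs)) ^ 2 ≠ 5 * (j : ℤ) ^ 2 * (c : ℤ) ^ 2 * (Z * (1 + Z)))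

theorem false_of_checkTwo (hG : ¬ IsMulCommutative G) {n m r k s d : ℕ} [Fact (Nat.Prime 5)]
    (hn : Nat.card G = n) (hnm : n = 5 * m) (hm : ¬ 5 ∣ m) (hr : (m * r) % 5 = 1) (P : Sylow 5 G)
    (hk : Nat.card (centralizer ((P : Subgroup G) : Set G)) = 5 * k)
    (hN : d * Nat.card (normalizer ((P : Subgroup G) : Set G)) = n) (hd : n = d * (5 * k * 2)) (hd0 : 0 < d)
    (hs : 0 < s) (hdvd : 2 ^ s ∣ n) (L : List ℤ) (cs : List ℕ) (hcs : ∀ c ∈ n.divisors.erase n, c ∈ cs)
    (hL : ∀ d ∈ n.divisors, 2 ≤ d → d * d < n → ((d : ℤ) % 5 = 1 → (d : ℤ) ∈ L) ∧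
      ((-(d : ℤ)) % 5 = 1 → -(d : ℤ) ∈ L))
    (hc : checkTwo n k (2 ^ s) L cs = true) : False := by
  haveI := Fintype.ofFinite G
  refine FivePairs.false_of_index_two hG hn hnm hm hr P hk
    (relIndex_eq _ (hk ▸ Nat.card_pos) hk (Nat.eq_of_mul_eq_mul_left hd0 (hN.trans hd))) rfl hs hdvd L hL
    fun Z hZ hZd c hcm hT j hj w hw hpar hlt => ?_
  simp only [checkTwo, List.all_eq_true, Bool.or_eq_true, decide_eq_true_eq] at hc
  have h1 := (hc Z hZ).resolve_left (not_not.2 (Nat.mod_eq_zero_of_dvd hZd))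
  have h2 := (h1 c (hcs c hcm)).resolve_left (not_not.2 (Nat.mod_eq_zero_of_dvd hT))
  rcases h2 j (List.mem_range.2 (Finset.mem_range.1 hj)) w hw with (h | h) | h
  · exact absurd (Int.emod_eq_zero_of_dvd hpar) h
  · exact absurd hlt h
  · exact h

theorem card_ne_1680 (hG : ¬ IsMulCommutative G) : Nat.card G ≠ 1680 := by
  intro hn
  haveI : Fact (Nat.Prime 5) := ⟨by norm_num⟩
  obtain ⟨P⟩ := (inferInstance : Nonempty (Sylow 5 G))
  obtain ⟨d, c, hmem, hd, hC, hN, -⟩ :=
    exists_opt hG (p := 5) (m := 336) (by decide) hn (by norm_num) (by norm_num) P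
  rw [show opts 5 1680 336 = [(21, 4), (56, 3)] by decide +kernel] at hmem
  simp only [List.mem_cons, List.not_mem_nil, or_false, Prod.mk.injEq] at hmem
  rcases hmem with ⟨rfl, rfl⟩ | ⟨rfl, rfl⟩
  · exact Cfsg.Agent.S1010.result hd
  · exact false_of_checkTwo hG (m := 336) (r := 1) (s := 4) hn (by norm_num) (by norm_num) (by norm_num) P hC hN
      (by norm_num) (by norm_num) (by norm_num) (by norm_num)
      [-4, 6, -14, 16, 21, -24] ((List.range 841).filter fun x => 1680 % x == 0) (by decide +kernel)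
      (by decide +kernel) (by decide +kernel)

theorem card_ne_2160 (hG : ¬ IsMulCommutative G) : Nat.card G ≠ 2160 := by
  intro hn
  haveI : Fact (Nat.Prime 5) := ⟨by norm_num⟩
  obtain ⟨P⟩ := (inferInstance : Nonempty (Sylow 5 G))
  obtain ⟨d, c, hmem, -, hC, hN, hP⟩ :=
    exists_opt hG (p := 5) (m := 432) (by decide) hn (by norm_num) (by norm_num) P
  have hc := cofactor_eq_one (a := 3) (b := 4) (by rw [hn]; norm_num) P hP hC
  rw [show opts 5 2160 432 = [(36, 3), (36, 6), (216, 1)] by decide +kernel] at hmem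
  simp only [List.mem_cons, List.not_mem_nil, or_false, Prod.mk.injEq] at hmem
  rcases hmem with ⟨-, rfl⟩ | ⟨-, rfl⟩ | ⟨rfl, rfl⟩
  · omega
  · omega
  · exact false_of_checkTwo hG (m := 432) (r := 3) (s := 4) hn (by norm_num) (by norm_num) (by norm_num) P hC hN
      (by norm_num) (by norm_num) (by norm_num) (by norm_num)
      [-4, 6, -9, 16, -24, 36] ((List.range 1081).filter fun x => 2160 % x == 0) (by decide +kernel)
      (by decide +kernel) (by decide +kernel)

end Cfsg.Agent.SmallSimple.Below3640
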