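import Cfsg.Agent.Lib.SmallSimple.Below3640.CasesA
import Cfsg.Agent.Lib.SmallSimple.Below6233.CasesD
import Cfsg.Agent.Lib.SmallSimple.SevenTriples
import Cfsg.Agent.Lib.Char.MaxDegree

/-!
# The orders 1512, 1800, 2100, 2400, 3360, 3600
-/

set_option autoImplicit false
set_option linter.style.haveILetI false
set_option linter.unusedSectionVars false

namespace Cfsg.Agent.SmallSimple.Below3640

open Subgroup Below6233 Cfsg Cfsg.Agent

universe u

/-- Six Sylow subgroups of order 25 in a group of order 150 or 300 are not self-centralised. -/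
theorem false_of_six {H : Type u} [Group H] [Finite H] [Fact (Nat.Prime 5)] (A : Sylow 5 H)
    (hA : Nat.card (A : Subgroup H) = 25) {t : ℕ} (ht : t = 6 ∨ t = 12) (hH : Nat.card H = 25 * t)
    (h6 : Nat.card (Sylow 5 H) = 6)
    (hNC : normalizer ((A : Subgroup H) : Set H) ≤ centralizer ((A : Subgroup H) : Set H)) : False := by
  haveI : Fact (Nat.Prime 3) := ⟨by norm_num⟩
  obtain ⟨P, K, hK, hc⟩ := Transfer.hasNormalPComplement_of_normalizer_le_centralizer A hNC
  have hPc : Nat.card (P : Subgroup H) = 25 := (Nat.card_congr (P.equiv A).toEquiv).trans hA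
  have hKc : Nat.card K = t := by
    have h := hc.card_mul_card
    rw [hPc, hH] at h
    omega
  obtain ⟨L⟩ := (inferInstance : Nonempty (Sylow 3 K))
  have hL : Nat.card (L : Subgroup K) = 3 := by
    rcases ht with rfl | rfl
    · rw [card_sylow_subgroup (k := 1) (m := 2) (by rw [hKc]; norm_num) (by norm_num) L, pow_one]
    · rw [card_sylow_subgroup (k := 1) (m := 4) (by rw [hKc]; norm_num) (by norm_num) L, pow_one]
  set R := (L : Subgroup K).map K.subtype with hR
  have hRc : Nat.card R = 3 := by rw [hR, card_map_of_injective K.subtype_injective, hL]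
  have hsup := Sylow.normalizer_sup_eq_top L
  set N := normalizer (R : Set H)
  have hN25 : 25 ∣ Nat.card N := by
    have h1 : N.index ∣ t := by
      have e1 : K.relIndex N = K.index := by
        rw [← Subgroup.relIndex_sup_right (H := N), show N ⊔ K = ⊤ from hsup, Subgroup.relIndex_top_right]
      have e2 := Subgroup.relIndex_mul_index (inf_le_left : N ⊓ K ≤ N)
      have e3 := Subgroup.relIndex_mul_index (inf_le_right : N ⊓ K ≤ K)
      rw [Subgroup.inf_relIndex_left, e1] at e2
      rw [Subgroup.inf_relIndex_right, ← e2, mul_comm (N.relIndex K)] at e3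
      have h4 : N.relIndex K = N.index := Nat.eq_of_mul_eq_mul_left (Nat.pos_of_ne_zero K.index_ne_zero_of_finite) e3
      rw [← h4, ← hKc]
      exact Subgroup.index_dvd_card _
    obtain ⟨q, hq⟩ := h1
    have h := Subgroup.card_mul_index N
    rw [hH, hq] at h
    have h0 : 0 < N.index := Nat.pos_of_ne_zero fun h0 => by
      rw [h0, zero_mul] at hq; omega
    refine ⟨q, Nat.eq_of_mul_eq_mul_right h0 (h.trans ?_)⟩
    ring
  obtain ⟨S, hS⟩ := Sylow.exists_subgroup_card_pow_prime 5 (G := N) (n := 2) hN25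
  obtain ⟨B, hB⟩ := (IsPGroup.of_card (p := 5) (n := 2) (G := S.map N.subtype)
    (by rw [card_map_of_injective N.subtype_injective, hS])).exists_le_sylow
  have hBc : Nat.card (B : Subgroup H) = 25 := (Nat.card_congr (B.equiv A).toEquiv).trans hA
  have hBN : (B : Subgroup H) ≤ N := by
    rw [← eq_of_le_of_card_ge hB (by rw [hBc, card_map_of_injective N.subtype_injective, hS]; norm_num)]
    exact map_subtype_le _
  obtain ⟨g, hg⟩ := MulAction.exists_smul_eq H A B
  have hRN : R ≤ normalizer ((B : Subgroup H) : Set H) := by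
    refine le_trans (fun r hr => ?_) (centralizer_le_normalizer _)
    rw [mem_centralizer_iff]
    intro b hb
    -- an element of 5-power order cannot move the two non-trivial elements of `R`
    have hbR : ∀ y, y ∈ R ↔ b * y * b⁻¹ ∈ R := fun y => mem_normalizer_iff.1 (hBN hb) y
    have hb' : b ^ 25 = 1 := by
      have := pow_card_eq_one' (G := (B : Subgroup H)) (x := ⟨b, hb⟩)
      rw [hBc] at this
      exact congrArg Subtype.val this
    haveI : IsCyclic R := isCyclic_of_prime_card hRc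
    by_cases hr1 : r = 1
    · rw [hr1, mul_one, one_mul]
    have hgen : zpowers r = R := by
      refine eq_of_le_of_card_ge (zpowers_le.2 hr) ?_
      rw [hRc, Nat.card_zpowers]
      have hd : orderOf r ∣ 3 := hRc ▸ Subgroup.orderOf_dvd_natCard R hr
      rcases (Nat.dvd_prime (by norm_num : Nat.Prime 3)).1 hd with h | h
      · exact absurd (orderOf_eq_one_iff.1 h) hr1
      · omega
    have hr3 : r ^ 3 = 1 := by
      have := pow_card_eq_one' (G := R) (x := ⟨r, hr⟩)
      rw [hRc] at this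
      exact congrArg Subtype.val this
    obtain ⟨i, hi⟩ := mem_zpowers_iff.1 (hgen.symm ▸ (hbR r).1 hr : b * r * b⁻¹ ∈ zpowers r)
    have hsq : b ^ 2 * r * (b ^ 2)⁻¹ = r := by
      have hcases : b * r * b⁻¹ = r ∨ b * r * b⁻¹ = r⁻¹ := by
        have hmod : r ^ i = r ^ (i % 3) := by
          nth_rewrite 1 [← Int.emod_add_mul_ediv i 3]
          rw [zpow_add, zpow_mul]
          norm_cast
          rw [hr3, one_zpow, mul_one]
        rw [← hi, hmod]
        rcases (show i % 3 = 0 ∨ i % 3 = 1 ∨ i % 3 = 2 by omega) with h | h | h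
        · exfalso
          rw [hmod, h, zpow_zero] at hi
          exact hr1 (conj_eq_one_iff.1 hi.symm)
        · left; rw [h, zpow_one]
        · right; rw [h, eq_inv_iff_mul_eq_one]; norm_cast; rw [← pow_succ, hr3]
      rcases hcases with h | h
      · calc b ^ 2 * r * (b ^ 2)⁻¹ = b * (b * r * b⁻¹) * b⁻¹ := by rw [pow_two]; group
          _ = r := by rw [h, h]
      · calc b ^ 2 * r * (b ^ 2)⁻¹ = b * (b * r * b⁻¹) * b⁻¹ := by rw [pow_two]; group
          _ = (b * r * b⁻¹)⁻¹ := by
            conv_lhs => rw [h]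
            group
          _ = r := by rw [h, inv_inv]
    have hbb : b = (b ^ 2) ^ 13 := by rw [← pow_mul, pow_succ b 25, hb', one_mul]
    have hc2 : Commute (b ^ 2) r := mul_inv_eq_iff_eq_mul.1 hsq
    have hcb := hc2.pow_left 13
    rw [← hbb] at hcb
    exact hcb.eq
  have h3 := Subgroup.card_dvd_of_le hRN
  rw [hRc] at h3
  have hmul := SmallSimple.card_sylow_mul_card_normalizer B
  rw [h6, hH] at hmul
  rcases ht with rfl | rfl <;> omega

variable {G : Type u} [Group G] [Finite G] [IsSimpleGroup G]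

/-- Two Sylow subgroups of order 25 generate a group with more than six or with a non-central element. -/
theorem exists_twelve (hG : ¬ IsMulCommutative G) [Fact (Nat.Prime 5)] {m : ℕ} (hn : Nat.card G = 25 * m)
    (hm : ¬ 5 ∣ m) (htwo : ∀ t ∈ twoSylow 5 (25 * m) m, t = 6 ∨ t = 12) {A B : Sylow 5 G} (hne : A ≠ B)
    {H : Subgroup G} (hA : (A : Subgroup G) ≤ H) (hB : (B : Subgroup G) ≤ H) (hH : H ≠ ⊤) :
    Nat.card H = 300 ∧ Nat.card ↥(normalizer ((A : Subgroup G) : Set G) ⊓ H) = 50 ∧
      ∃ s ∈ normalizer ((A : Subgroup G) : Set G) ⊓ H, s ∉ centralizer ((A : Subgroup G) : Set G) := by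
  have hn2 : Nat.card G = 5 ^ 2 * m := by rw [hn]; norm_num
  obtain ⟨t, htmem, hHc, -, hdvd, h1, hmod⟩ := two_sylow_data hG (n := 25 * m) (e := 2) hn (by norm_num) hm
    hne hA hB hH
  have ht := htwo t htmem
  have h6 : Nat.card (Sylow 5 H) = 6 := by
    have hle := Nat.le_of_dvd (by omega) hdvd
    obtain ⟨q, hq⟩ := hdvd
    generalize Nat.card (Sylow 5 H) = k at h1 hmod hle hq
    rcases ht with rfl | rfl <;> interval_cases k <;> omega
  have hAc := card_sylow_subgroup hn2 hm A
  set A' := A.subtype hA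
  have hA'c : Nat.card (A' : Subgroup H) = 25 := by
    rw [Sylow.coe_subtype, Nat.card_congr (subgroupOfEquivOfLe hA).toEquiv, hAc]; norm_num
  obtain ⟨s, hsN, hsC⟩ : ∃ s : H, s ∈ normalizer ((A' : Subgroup H) : Set H) ∧
      s ∉ centralizer ((A' : Subgroup H) : Set H) := by
    by_contra hcon
    push Not at hcon
    exact false_of_six A' hA'c ht (by rw [hHc]; norm_num) h6 hcon
  obtain ⟨a, ha, -, hmul⟩ := exists_count A hA
  rw [h6] at ha
  rw [← ha, hHc] at hmul
  have hsmem : (s : G) ∈ normalizer ((A : Subgroup G) : Set G) := by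
    have h := smul_sylow_eq_iff.2 hsN
    rw [show A' = A.subtype hA from rfl, Sylow.smul_subtype] at h
    exact smul_sylow_eq_iff.1 (Sylow.subtype_injective h)
  have hsnot : (s : G) ∉ centralizer ((A : Subgroup G) : Set G) := fun h => hsC fun a ha =>
    Subtype.ext (h a (mem_subgroupOf.1 ha))
  have hAab : (A : Subgroup G) ≤ centralizer ((A : Subgroup G) : Set G) := by
    haveI : IsMulCommutative (A : Subgroup G) :=
      IsPGroup.isMulCommutative_of_card_eq_prime_sq (p := 5) (by rw [hAc])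
    exact le_centralizer _
  rcases ht with rfl | rfl
  · exfalso
    refine hsnot (hAab ?_)
    have heq : (A : Subgroup G) = normalizer ((A : Subgroup G) : Set G) ⊓ H :=
      eq_of_le_of_card_ge (le_inf le_normalizer hA) (by rw [hAc]; omega)
    rw [heq]
    exact ⟨hsmem, s.2⟩
  · exact ⟨by rw [hHc]; norm_num, by omega, s, ⟨hsmem, s.2⟩, hsnot⟩

theorem exists_pair (hG : ¬ IsMulCommutative G) [Fact (Nat.Prime 5)] {m : ℕ} (hn : Nat.card G = 25 * m)
    (hm : ¬ 5 ∣ m) (hc : ∀ d ∈ cands 5 (25 * m) m, d % 25 ≠ 1) :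
    ∃ A B : Sylow 5 G, A ≠ B ∧ ∃ D : Subgroup G, Nat.card D = 5 ∧ D ≤ (A : Subgroup G) ∧
      (A : Subgroup G) ≤ centralizer (D : Set G) ∧ (B : Subgroup G) ≤ centralizer (D : Set G) ∧
      normalizer (D : Set G) ≠ ⊤ := by
  obtain ⟨P⟩ := (inferInstance : Nonempty (Sylow 5 G))
  obtain ⟨hd, -, -⟩ := mem_cands hG (e := 2) hn (by norm_num) (by norm_num) hm P
  obtain ⟨A, B, hne, hcard, -, -, htop⟩ := exists_index_prime hG (e := 2) hn (by norm_num) le_rfl hm (hc _ hd)
  refine ⟨A, B, hne, (A : Subgroup G) ⊓ (B : Subgroup G), by rw [hcard]; norm_num, inf_le_left, ?_, ?_, htop⟩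
  · intro a ha
    haveI : IsMulCommutative (A : Subgroup G) := IsPGroup.isMulCommutative_of_card_eq_prime_sq (p := 5)
      (card_sylow_subgroup (k := 2) (by rw [hn]; norm_num) hm A)
    exact fun b hb => congrArg Subtype.val (mul_comm' (⟨b, hb.1⟩ : (A : Subgroup G)) ⟨a, ha⟩)
  · intro a ha
    haveI : IsMulCommutative (B : Subgroup G) := IsPGroup.isMulCommutative_of_card_eq_prime_sq (p := 5)
      (card_sylow_subgroup (k := 2) (by rw [hn]; norm_num) hm B)
    exact fun b hb => congrArg Subtype.val (mul_comm' (⟨b, hb.2⟩ : (B : Subgroup G)) ⟨a, ha⟩)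

theorem false_of_six_only (hG : ¬ IsMulCommutative G) [Fact (Nat.Prime 5)] {m : ℕ} (hn : Nat.card G = 25 * m)
    (hm : ¬ 5 ∣ m) (hc : ∀ d ∈ cands 5 (25 * m) m, d % 25 ≠ 1) (htwo : ∀ t ∈ twoSylow 5 (25 * m) m, t = 6) :
    False := by
  obtain ⟨A, B, hne, D, -, -, hA, hB, htop⟩ := exists_pair hG hn hm hc
  obtain ⟨t, ht, hHc, -⟩ := two_sylow_data hG (n := 25 * m) (e := 2) hn (by norm_num) hm hne
    (hA.trans (centralizer_le_normalizer D)) (hB.trans (centralizer_le_normalizer D)) htop
  obtain ⟨h300, -⟩ := exists_twelve hG hn hm (fun t h => Or.inl (htwo t h)) hne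
    (hA.trans (centralizer_le_normalizer D)) (hB.trans (centralizer_le_normalizer D)) htop
  rw [hHc, htwo t ht] at h300
  norm_num at h300

theorem card_ne_1800 (hG : ¬ IsMulCommutative G) : Nat.card G ≠ 1800 := fun hn => by
  haveI : Fact (Nat.Prime 5) := ⟨by norm_num⟩
  exact false_of_six_only hG (m := 72) (by rw [hn]) (by norm_num) (by decide +kernel) (by decide +kernel)

theorem card_ne_2100 (hG : ¬ IsMulCommutative G) : Nat.card G ≠ 2100 := fun hn => by
  haveI : Fact (Nat.Prime 5) := ⟨by norm_num⟩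
  exact false_of_six_only hG (m := 84) (by rw [hn]) (by norm_num) (by decide +kernel) (by decide +kernel)

theorem card_ne_2400 (hG : ¬ IsMulCommutative G) : Nat.card G ≠ 2400 := fun hn => by
  haveI : Fact (Nat.Prime 5) := ⟨by norm_num⟩
  exact false_of_six_only hG (m := 96) (by rw [hn]) (by norm_num) (by decide +kernel) (by decide +kernel)

theorem card_ne_3600 (hG : ¬ IsMulCommutative G) : Nat.card G ≠ 3600 := by
  intro hn
  haveI : Fact (Nat.Prime 5) := ⟨by norm_num⟩
  have hn' : Nat.card G = 25 * 144 := by rw [hn]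
  have htwo : ∀ t ∈ twoSylow 5 (25 * 144) 144, t = 6 ∨ t = 12 := by decide +kernel
  obtain ⟨A, B, hne, D, hDc, hDA, hA, hB, htop⟩ := exists_pair hG hn' (by norm_num) (by decide +kernel)
  have hAN := hA.trans (centralizer_le_normalizer D)
  have hBN := hB.trans (centralizer_le_normalizer D)
  obtain ⟨hH, hM, s, hs, hsC⟩ := exists_twelve hG hn' (by norm_num) htwo hne hAN hBN htop
  have hCD : centralizer (D : Set G) = normalizer (D : Set G) := by
    have hne' : centralizer (D : Set G) ≠ ⊤ := fun h => htop (top_unique (h ▸ centralizer_le_normalizer D))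
    obtain ⟨hC, -⟩ := exists_twelve hG hn' (by norm_num) htwo hne hA hB hne'
    exact eq_of_le_of_card_ge (centralizer_le_normalizer D) (by rw [hC, hH])
  have hAc : Nat.card (A : Subgroup G) = 25 :=
    card_sylow_subgroup (k := 2) (m := 144) (by rw [hn]; norm_num) (by norm_num) A
  haveI hab : IsMulCommutative (A : Subgroup G) := IsPGroup.isMulCommutative_of_card_eq_prime_sq (p := 5)
    (by rw [hAc]; norm_num)
  obtain ⟨g, hg, hgD⟩ : ∃ g ∈ normalizer ((A : Subgroup G) : Set G), g ∉ normalizer (D : Set G) := by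
    by_contra hcon
    push Not at hcon
    obtain ⟨x, hxD, hx⟩ := exists_order (r := 5) (H := D) hDc.symm.dvd
    have h1 := eq_one_of_normalizer_central hG A hab (hDA hxD) fun k hk =>
      (((hCD ▸ hcon k hk : k ∈ centralizer (D : Set G))) x hxD).symm
    rw [h1, orderOf_one] at hx
    omega
  obtain ⟨-, hmul, -⟩ := mem_cands hG (p := 5) (e := 2) (m := 144) hn (by norm_num) (by norm_num) (by norm_num) A
  obtain ⟨hd, -, -⟩ := mem_cands hG (p := 5) (e := 2) (m := 144) hn (by norm_num) (by norm_num) (by norm_num) A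
  rw [show cands 5 3600 144 = [16, 36] by decide +kernel] at hd
  simp only [List.mem_cons, List.not_mem_nil, or_false] at hd
  set N := normalizer ((A : Subgroup G) : Set G)
  set M := N ⊓ normalizer (D : Set G)
  have hN : Nat.card N = 100 := by
    have h50 := Subgroup.card_dvd_of_le (inf_le_left : M ≤ N)
    rw [hM] at h50
    rcases hd with h | h <;> rw [h] at hmul <;> omega
  have hMi : (M.subgroupOf N).index = 2 := by
    have h := Subgroup.card_mul_index (M.subgroupOf N)
    rw [Nat.card_congr (subgroupOfEquivOfLe inf_le_left).toEquiv, hM, hN] at h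
    omega
  haveI := normal_of_index_eq_two hMi
  have hconj : g * s * g⁻¹ ∈ M := by
    have := (inferInstance : (M.subgroupOf N).Normal).conj_mem ⟨s, hs.1⟩ (mem_subgroupOf.2 hs) ⟨g, hg⟩
    simpa [mem_subgroupOf] using this
  have hsD : s ∈ centralizer (D : Set G) := hCD ▸ hs.2
  have hgsD : g * s * g⁻¹ ∈ centralizer (D : Set G) := hCD ▸ hconj.2
  have hgsD' : g * s * g⁻¹ ∈ centralizer ((D.map (MulAut.conj g).toMonoidHom : Subgroup G) : Set G) := by
    rw [mem_centralizer_iff]
    rintro _ ⟨d, hd', rfl⟩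
    show g * d * g⁻¹ * (g * s * g⁻¹) = g * s * g⁻¹ * (g * d * g⁻¹)
    calc g * d * g⁻¹ * (g * s * g⁻¹) = g * (d * s) * g⁻¹ := by group
      _ = g * (s * d) * g⁻¹ := by rw [hsD d hd']
      _ = _ := by group
  set D' := D.map (MulAut.conj g).toMonoidHom
  have hD'A : D' ≤ (A : Subgroup G) := by
    rintro _ ⟨d, hd', rfl⟩
    exact (mem_normalizer_iff.1 hg d).1 (hDA hd')
  have hD'c : Nat.card D' = 5 := by rw [card_map_of_injective (MulAut.conj g).injective, hDc]
  have hD'ne : D' ≠ D := fun h => hgD (by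
    rw [mem_normalizer_iff]
    intro x
    constructor
    · intro hx; exact h.le ⟨x, hx, rfl⟩
    · intro hx
      obtain ⟨d, hd', he⟩ := h.ge hx
      rw [← (MulAut.conj g).injective (a₁ := d) (a₂ := x) he]
      exact hd')
  have hgen : D ⊔ D' = (A : Subgroup G) := by
    refine eq_of_le_of_card_ge (sup_le hDA hD'A) ?_
    have hd5 : Nat.card ↥(D ⊔ D') ∣ 25 := hAc ▸ Subgroup.card_dvd_of_le (sup_le hDA hD'A)
    obtain ⟨j, hj, hje⟩ := (Nat.dvd_prime_pow (by norm_num : Nat.Prime 5)).1
      (show Nat.card ↥(D ⊔ D') ∣ 5 ^ 2 from hd5)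
    have hle := Nat.le_of_dvd Nat.card_pos (Subgroup.card_dvd_of_le (le_sup_left : D ≤ D ⊔ D'))
    rw [hDc, hje] at hle
    interval_cases j
    · norm_num at hle
    · exfalso
      have h1 := eq_of_le_of_card_ge (le_sup_left : D ≤ D ⊔ D') (by rw [hje, hDc]; norm_num)
      have h2 : D' ≤ D := h1 ▸ le_sup_right
      exact hD'ne (eq_of_le_of_card_ge h2 (by rw [hDc, hD'c]))
    · rw [hje, hAc]; norm_num
  apply hsC
  have hgsA : g * s * g⁻¹ ∈ centralizer ((A : Subgroup G) : Set G) := by
    rw [← hgen]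
    rw [mem_centralizer_iff]
    intro a ha
    have : D ⊔ D' ≤ centralizer ({g * s * g⁻¹} : Set G) := sup_le
      (fun d hd' => mem_centralizer_singleton_iff.2 (hgsD d hd'))
      (fun d hd' => mem_centralizer_singleton_iff.2 (hgsD' d hd'))
    exact mem_centralizer_singleton_iff.1 (this ha)
  have h := conj_mem_centralizer (inv_mem hg) hgsA
  rwa [show g⁻¹ * (g * s * g⁻¹) * g⁻¹⁻¹ = s by group] at h

open scoped ComplexConjugate in
theorem card_ne_1512 (hG : ¬ IsMulCommutative G) : Nat.card G ≠ 1512 := by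
  intro hn
  classical
  haveI := Fintype.ofFinite G
  haveI : Fact (Nat.Prime 7) := ⟨by norm_num⟩
  obtain ⟨P⟩ := (inferInstance : Nonempty (Sylow 7 G))
  obtain ⟨d, c, hmem, -, hC, hN, hP⟩ :=
    exists_opt hG (p := 7) (m := 216) (by decide) hn (by norm_num) (by norm_num) P
  have hc := cofactor_eq_one (a := 3) (b := 3) (by rw [hn]; norm_num) P hP hC
  have hd : d = 36 := by
    rw [show opts 7 1512 216 = [(36, 1), (36, 2), (36, 3)] by decide +kernel] at hmem
    simp only [List.mem_cons, List.not_mem_nil, or_false, Prod.mk.injEq] at hmem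
    rcases hmem with ⟨h, -⟩ | ⟨h, -⟩ | ⟨h, -⟩ <;> exact h
  subst hc hd
  have hN42 : Nat.card (normalizer ((P : Subgroup G) : Set G)) = 42 := by omega
  obtain ⟨M, hM⟩ := CharInt.exists_isPModular_of_prime (q := 7) (by norm_num)
  haveI := hM.2.1
  obtain ⟨T, z, -, hT, ⟨θ, -, hθne, -, σ, hσ, hrel⟩, l, hl, hlT⟩ :=
    exists_degSol hG (p := 7) (m := 216) (e := 6) (by rw [hn]) (by norm_num) (by norm_num) (P := P)
      (relIndex_eq _ (by norm_num : 0 < 7 * 1) hC (by rw [hN42])) hM.2.2
  obtain ⟨χ, hχne, hχ6⟩ : ∃ χ : IrrCharacter G, χ ≠ Char.trivialChar G ∧ Char.degree χ = 6 := by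
    have h6 : ∀ l ∈ degSols 7 216 6, (6 : ℤ) ∈ l ∨ (-6 : ℤ) ∈ l ∨ 1 + l.sum = 6 ∨ 1 + l.sum = -6 := by
      decide +kernel
    have hmem' : ∀ x : ℤ, x ∈ l → x.natAbs = 6 → ∃ χ : IrrCharacter G, χ ≠ Char.trivialChar G ∧
        Char.degree χ = 6 := fun x hx hx6 => by
      have : x ∈ (l : Multiset ℤ) := hx
      rw [hlT] at this
      obtain ⟨χ, hχ, rfl⟩ := Multiset.mem_map.1 this
      obtain ⟨h1, -, h2, -⟩ := hT χ hχ
      refine ⟨χ, h1, ?_⟩
      rcases h2 with h | h <;> rw [h] at hx6 <;> simpa using hx6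
    have hθ : (1 + l.sum).natAbs = 6 → ∃ χ : IrrCharacter G, χ ≠ Char.trivialChar G ∧
        Char.degree χ = 6 := fun h => by
      refine ⟨θ, hθne, ?_⟩
      have h1 := hrel 1 (by simp [IsPRegular])
      simp only [Char.apply_one_eq_degree] at h1
      have hsum : l.sum = ∑ χ ∈ T, z χ * (Char.degree χ : ℤ) := by
        rw [← Multiset.sum_coe, hlT]; rfl
      have h2 : σ * (Char.degree θ : ℤ) = 1 + l.sum := by rw [hsum]; exact_mod_cast h1
      rw [← h2, Int.natAbs_mul] at h
      rcases hσ with e | e <;> simpa [e] using h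
    rcases h6 l hl with h | h | h | h
    · exact hmem' _ h rfl
    · exact hmem' _ h rfl
    · exact hθ (by rw [h]; rfl)
    · exact hθ (by rw [h]; rfl)
  obtain ⟨y, hyP, hy⟩ := exists_order (r := 7) (H := (P : Subgroup G)) hP.symm.dvd
  -- all non-trivial elements of `P` are conjugate under the normaliser
  set C := centralizer ((P : Subgroup G) : Set G)
  set N := normalizer ((P : Subgroup G) : Set G)
  let f : N → (P : Subgroup G) := fun g => ⟨g * y * (g : G)⁻¹, (mem_normalizer_iff.1 g.2 y).1 hyP⟩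
  have hzy : zpowers y = (P : Subgroup G) :=
    eq_of_le_of_card_ge (zpowers_le.2 hyP) (by rw [hP, Nat.card_zpowers, hy])
  have hy1 : y ≠ 1 := fun h => by rw [h, orderOf_one] at hy; omega
  have hsurj : ∀ v ∈ (P : Subgroup G), v ≠ 1 → ∃ g ∈ N, g * y * g⁻¹ = v := by
    haveI := Fintype.ofFinite (P : Subgroup G)
    haveI := Fintype.ofFinite N
    have hfib : ∀ b ∈ (Finset.univ.image f), (Finset.univ.filter fun g => f g = b).card ≤ 7 := fun b hb => by
      obtain ⟨g₀, -, rfl⟩ := Finset.mem_image.1 hb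
      calc (Finset.univ.filter fun g => f g = f g₀).card
          = Nat.card {g : N // f g = f g₀} := by rw [Nat.card_eq_fintype_card, Fintype.card_subtype]
        _ ≤ Nat.card C := by
            refine Nat.card_le_card_of_injective (fun g => ⟨(g₀ : G)⁻¹ * (g.1 : G), ?_⟩) ?_
            · rw [show C = centralizer ((zpowers y : Subgroup G) : Set G) by rw [hzy],
                zpowers_eq_closure, centralizer_closure, mem_centralizer_singleton_iff]
              have h : (g.1 : G) * y * (g.1 : G)⁻¹ = g₀ * y * (g₀ : G)⁻¹ := congrArg Subtype.val g.2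
              calc (g₀ : G)⁻¹ * g.1 * y = (g₀ : G)⁻¹ * ((g.1 : G) * y * (g.1 : G)⁻¹) * g.1 := by group
                _ = y * ((g₀ : G)⁻¹ * g.1) := by rw [h]; group
            · intro a b h
              exact Subtype.ext (Subtype.ext (mul_left_cancel (congrArg Subtype.val h)))
        _ = 7 := by rw [hC]
    have h1 := Finset.card_le_mul_card_image (f := f) Finset.univ 7 hfib
    rw [Finset.card_univ, ← Nat.card_eq_fintype_card, hN42] at h1
    have hsub : Finset.univ.image f ⊆ Finset.univ.erase 1 := fun b hb => by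
      obtain ⟨g, -, rfl⟩ := Finset.mem_image.1 hb
      exact Finset.mem_erase.2 ⟨fun h => hy1 (conj_eq_one_iff.1 (congrArg Subtype.val h)), Finset.mem_univ _⟩
    have hc6 : (Finset.univ.erase (1 : (P : Subgroup G))).card = 6 := by
      rw [Finset.card_erase_of_mem (Finset.mem_univ _), Finset.card_univ, ← Nat.card_eq_fintype_card, hP]
    have heq := Finset.eq_of_subset_of_card_le hsub (by rw [hc6]; omega)
    intro v hv hv1
    have : (⟨v, hv⟩ : (P : Subgroup G)) ∈ Finset.univ.image f := by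
      rw [heq]
      exact Finset.mem_erase.2 ⟨fun h => hv1 (congrArg Subtype.val h), Finset.mem_univ _⟩
    obtain ⟨g, -, hg⟩ := Finset.mem_image.1 this
    exact ⟨g, g.2, congrArg Subtype.val hg⟩
  set v := χ.1 y with hv
  have hval : ∀ u ∈ (P : Subgroup G), u ≠ 1 → χ.1 u = v := fun u hu hu1 => by
    obtain ⟨g, -, rfl⟩ := hsurj u hu hu1
    exact Char.IsCharacter.isClassFunction (Char.irr_isCharacter χ) y g
  haveI := Fintype.ofFinite (P : Subgroup G)
  have hres := Char.IsCharacter.restrict (Char.irr_isCharacter χ) (P : Subgroup G)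
  obtain ⟨k, hk⟩ := Char.IsCharacter.exists_nat_classInner hres
    (Char.irr_isCharacter (Char.trivialChar (P : Subgroup G)))
  obtain ⟨j, hj⟩ := Char.IsCharacter.exists_nat_classInner hres hres
  simp only [classInner, Char.trivialChar_apply, map_one, mul_one, hP] at hk
  simp only [classInner, hP] at hj
  rw [sum_over_nontrivial (fun u : (P : Subgroup G) => χ.1 (u : G)) v (fun u hu => hval u u.2 fun h => hu (Subtype.ext h)),
    ← Nat.card_eq_fintype_card, hP, Subgroup.coe_one, Char.apply_one_eq_degree, hχ6,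
    inv_mul_eq_iff_eq_mul₀ (by norm_num)] at hk
  push_cast at hk
  have hvk : v = ((7 * (k : ℝ) - 6) / 6 : ℝ) := by
    push_cast; linear_combination (1 / 6 : ℂ) * hk
  rw [sum_over_nontrivial (fun u : (P : Subgroup G) => χ.1 (u : G) * conj (χ.1 (u : G))) (v * conj v)
      (fun u hu => by rw [hval u u.2 fun h => hu (Subtype.ext h)]),
    ← Nat.card_eq_fintype_card, hP, Subgroup.coe_one, Char.apply_one_eq_degree, hχ6,
    inv_mul_eq_iff_eq_mul₀ (by norm_num), map_natCast, hvk, Complex.conj_ofReal] at hj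
  have hkj : 49 * k * k + 252 = 84 * k + 42 * j := by
    have h : ((49 * k * k + 252 : ℕ) : ℂ) = ((84 * k + 42 * j : ℕ) : ℂ) := by
      push_cast at hj ⊢
      linear_combination 6 * hj
    exact_mod_cast h
  obtain ⟨w, hwN, hwy⟩ := hsurj y⁻¹ (inv_mem hyP) (inv_ne_one.2 hy1)
  -- replace `w` by an involution
  obtain ⟨w, hw2, hwinv⟩ : ∃ w : G, w * w = 1 ∧ w * y * w⁻¹ = y⁻¹ := by
    haveI : Fact (Nat.Prime 2) := ⟨Nat.prime_two⟩
    obtain ⟨i, j', hj', hdec⟩ := Nat.exists_eq_two_pow_mul_odd (orderOf_pos w).ne'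
    obtain ⟨q, rfl⟩ := hj'
    refine ⟨w ^ (2 * q + 1), ?_, ?_⟩
    · have h : orderOf (⟨w, hwN⟩ : N) ∣ 42 := hN42 ▸ orderOf_dvd_natCard _
      rw [← Subgroup.orderOf_coe, show ((⟨w, hwN⟩ : N) : G) = w from rfl, hdec] at h
      have hi : i ≤ 1 := by
        by_contra hi
        have : 4 ∣ 42 := (Nat.pow_dvd_pow 2 (show 2 ≤ i by omega)).trans ((dvd_mul_right _ _).trans h)
        norm_num at this
      rw [← pow_add]
      apply orderOf_dvd_iff_pow_eq_one.1
      rw [hdec]
      interval_cases i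
      · simp
      · exact ⟨1, by ring⟩
    · have h2 : Commute (w * w) y := by
        show w * w * y = y * (w * w)
        calc w * w * y = w * (w * y * w⁻¹) * w := by group
          _ = (w * y * w⁻¹)⁻¹ * (w * w) := by
            conv_lhs => rw [hwy]
            group
          _ = y * (w * w) := by rw [hwy, inv_inv]
      have h3 : Commute ((w * w) ^ q) y := h2.pow_left q
      have e : w ^ (2 * q + 1) = w * (w * w) ^ q := by rw [← pow_two, ← pow_mul, pow_succ']
      rw [e]
      calc w * (w * w) ^ q * y * (w * (w * w) ^ q)⁻¹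
          = w * ((w * w) ^ q * y * ((w * w) ^ q)⁻¹) * w⁻¹ := by group
        _ = y⁻¹ := by rw [h3.eq, mul_inv_cancel_right, hwy]
  obtain ⟨a, ha, h4, hle⟩ := InvVal.four_dvd_degree_sub (perfect hG) hw2 χ
  have hy7 : y ^ 7 = 1 := hy ▸ pow_orderOf_eq_one y
  have hvi : ∀ i : ℕ, ¬ 7 ∣ i → χ.1 (y ^ i) = v := fun i hi => hval _ (pow_mem hyP i) fun h =>
    hi (hy ▸ orderOf_dvd_of_pow_eq_one h)
  obtain ⟨M₁, hM₁⟩ := InvVal.exists_restriction (p := 7) (by norm_num) hy7 hw2 hwinv χ hvi ha (s := 1) (Or.inl rfl)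
  obtain ⟨M₂, hM₂⟩ := InvVal.exists_restriction (p := 7) (by norm_num) hy7 hw2 hwinv χ hvi ha (s := -1) (Or.inr rfl)
  rw [Char.apply_one_eq_degree, hχ6, hvk] at hM₁ hM₂
  have e1 : (k : ℤ) + a = 2 * M₁ := by
    have h : (((k : ℤ) + a : ℤ) : ℂ) = ((2 * (M₁ : ℤ) : ℤ) : ℂ) := by
      push_cast at hM₁ ⊢
      linear_combination (1 / 7 : ℂ) * hM₁
    exact_mod_cast h
  have e2 : (k : ℤ) - a = 2 * M₂ := by
    have h : (((k : ℤ) - a : ℤ) : ℂ) = ((2 * (M₂ : ℤ) : ℤ) : ℂ) := by
      push_cast at hM₂ ⊢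
      linear_combination (1 / 7 : ℂ) * hM₂
    exact_mod_cast h
  rw [hχ6] at h4 hle
  rcases Nat.eq_zero_or_pos k with rfl | hk0
  · omega
  · have hk6 : k % 6 = 0 := by
      have h1 : (49 * k * k + 252) % 6 = (84 * k + 42 * j) % 6 := by rw [hkj]
      have h2 : k % 6 = 0 ∨ k % 6 = 1 ∨ k % 6 = 2 ∨ k % 6 = 3 ∨ k % 6 = 4 ∨ k % 6 = 5 := by omega
      rcases h2 with h | h | h | h | h | h <;>
        simp [Nat.add_mod, Nat.mul_mod, h] at h1 ⊢
    have hreal := Char.MaxDegree.normSq_apply_le (Char.irr_isCharacter χ) (d := 6) (by rw [Char.apply_one_eq_degree, hχ6]) y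
    rw [← hv, hvk, Complex.normSq_ofReal] at hreal
    push_cast at hreal
    have hk7 : k < 7 := by
      by_contra hc
      have : (7 : ℝ) ≤ k := by exact_mod_cast (Nat.le_of_not_lt hc)
      nlinarith [hreal]
    have hk' : k = 6 := by omega
    subst hk'
    apply hy1
    refine SmallCofactor.eq_one_of_apply_eq hG hχne ?_
    rw [← hv, hvk, Char.apply_one_eq_degree, hχ6]
    norm_num

end Cfsg.Agent.SmallSimple.Below3640
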