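import Cfsg.Agent.Lib.SmallSimple.Below3640.CasesB

/-!
# The order 3360
-/

set_option autoImplicit false
set_option linter.style.haveILetI false
set_option linter.unusedSectionVars false

namespace Cfsg.Agent.SmallSimple.Below3640

open Subgroup Below6233 Cfsg Cfsg.Agent
open scoped ComplexConjugate

universe u

variable {G : Type u} [Group G] [Finite G] [IsSimpleGroup G]

theorem card_ne_3360 (hG : ¬ IsMulCommutative G) : Nat.card G ≠ 3360 := by
  intro hn
  classical
  haveI := Fintype.ofFinite G
  haveI : Fact (Nat.Prime 7) := ⟨by norm_num⟩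
  haveI : Fact (Nat.Prime 2) := ⟨by norm_num⟩
  obtain ⟨P⟩ := (inferInstance : Nonempty (Sylow 7 G))
  obtain ⟨d, c, hmem, -, hC, hN, hP⟩ :=
    exists_opt hG (p := 7) (m := 480) (by decide) hn (by norm_num) (by norm_num) P
  rw [show opts 7 3360 480 = [(120, 2)] by decide +kernel] at hmem
  simp only [List.mem_singleton, Prod.mk.injEq] at hmem
  obtain ⟨rfl, rfl⟩ := hmem
  obtain ⟨M, hM⟩ := CharInt.exists_isPModular_of_prime (q := 7) (by norm_num)
  haveI := hM.2.1
  obtain ⟨T, z, -, hT, ⟨θ, hθT, hθne, -, σ, hσ, hrel⟩, l, hl, hlT⟩ :=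
    exists_degSol hG (p := 7) (m := 480) (e := 2) (by rw [hn]) (by norm_num) le_rfl (P := P)
      (relIndex_eq _ (by norm_num : 0 < 7 * 2) hC (by omega)) hM.2.2
  rw [show degSols 7 480 2 = [[15]] by decide +kernel] at hl
  simp only [List.mem_singleton] at hl
  subst hl
  obtain ⟨χ, hTχ⟩ : ∃ χ, T = {χ} := by
    refine Finset.card_eq_one.1 ?_
    have h := congrArg Multiset.card hlT
    rw [Multiset.card_map] at h
    simpa using h.symm
  have hZ : z χ * (Char.degree χ : ℤ) = 15 := by
    rw [hTχ] at hlT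
    simpa using hlT.symm
  obtain ⟨hχne, hχB, hz, hval⟩ := hT χ (by rw [hTχ]; exact Finset.mem_singleton_self χ)
  have hz1 : z χ = 1 := by
    rcases hz with h | h
    · exact h
    · rw [h] at hZ; omega
  have h15 : Char.degree χ = 15 := by rw [hz1] at hZ; omega
  obtain ⟨y, hyP, hy⟩ := exists_order (r := 7) (H := (P : Subgroup G)) hP.symm.dvd
  obtain ⟨t, htC, ht⟩ := exists_order (r := 2) (H := centralizer ((P : Subgroup G) : Set G))
    (by rw [hC]; norm_num)
  have ht2 : t * t = 1 := by rw [← pow_two, ← ht, pow_orderOf_eq_one]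
  have ht1 : t ≠ 1 := fun h => by rw [h, orderOf_one] at ht; omega
  obtain ⟨a, ha, h4, hle⟩ := InvVal.four_dvd_degree_sub (perfect hG) ht2 χ
  -- the values on the cyclic group `⟨t⟩ × P`
  have hd := DefectOne.freeData_of_card_eq (P := P) (show Nat.card P = 7 from hP)
  have hcomm : ∀ (b : (zpowers t : Subgroup G)) (u : (P : Subgroup G)), Commute (b : G) (u : G) := fun b u => by
    obtain ⟨i, hi⟩ := mem_zpowers_iff.1 b.2
    rw [← hi]
    exact (show Commute t (u : G) from (htC u u.2).symm).zpow_left i
  let φ := MonoidHom.noncommCoprod (zpowers t).subtype (P : Subgroup G).subtype hcomm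
  haveI := Fintype.ofFinite (zpowers t)
  haveI := Fintype.ofFinite (P : Subgroup G)
  have hvals : ∀ (b : (zpowers t : Subgroup G)) (u : (P : Subgroup G)), u ≠ 1 → χ.1 (φ (b, u)) = 1 := by
    intro b u hu
    show χ.1 ((b : G) * u) = 1
    have hu1 : (u : G) ≠ 1 := fun h => hu (Subtype.ext h)
    have hpp : IsPPart 7 ((b : G) * u) (u : G) := by
      refine ⟨b, ((hcomm b u).eq).symm, (hcomm b u).symm, hd.exists_pow_orderOf u.2, ?_⟩
      intro h
      have h2 : orderOf (b : G) ∣ 2 := by
        have := Subgroup.orderOf_dvd_natCard _ b.2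
        rwa [Nat.card_zpowers, ht] at this
      have := h.trans h2
      norm_num at this
    rw [hd.apply_section hM.2.2 hχB hpp u.2 hu1, hval (by norm_num) u hu, hz1, Int.cast_one]
  obtain ⟨k, hk⟩ := Char.IsCharacter.exists_nat_classInner
    (Char.IsCharacter.comp (Char.irr_isCharacter χ) φ)
    (Char.irr_isCharacter (Char.trivialChar (↥(zpowers t) × ↥(P : Subgroup G))))
  simp only [classInner, Char.trivialChar_apply, map_one, mul_one] at hk
  rw [Nat.card_prod, Nat.card_zpowers, ht, show Nat.card (P : Subgroup G) = 7 from hP] at hk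
  have hsum : ∑ w : ↥(zpowers t) × ↥(P : Subgroup G), χ.1 (φ w) = (15 + a : ℤ) + 12 := by
    rw [Fintype.sum_prod_type]
    rw [Finset.sum_congr rfl fun b _ => sum_over_nontrivial (fun u : (P : Subgroup G) => χ.1 (φ (b, u))) 1
      (hvals b)]
    rw [Finset.sum_add_distrib, Finset.sum_const, Finset.card_univ, ← Nat.card_eq_fintype_card,
      ← Nat.card_eq_fintype_card, Nat.card_zpowers, ht, show Nat.card (P : Subgroup G) = 7 from hP]
    have hφ1 : ∀ b : (zpowers t : Subgroup G), χ.1 (φ (b, 1)) = χ.1 (b : G) := fun b => by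
      show χ.1 ((b : G) * ((1 : (P : Subgroup G)) : G)) = _
      rw [Subgroup.coe_one, mul_one]
    rw [Finset.sum_congr rfl fun b _ => hφ1 b]
    have huniv : (Finset.univ : Finset (zpowers t : Subgroup G)) = {1, ⟨t, mem_zpowers t⟩} := by
      refine (Finset.eq_univ_of_card _ ?_).symm
      rw [Finset.card_pair (fun h => ht1 (congrArg Subtype.val h).symm), ← Nat.card_eq_fintype_card,
        Nat.card_zpowers, ht]
    rw [huniv, Finset.sum_pair (fun h => ht1 (congrArg Subtype.val h).symm)]
    simp only [Subgroup.coe_one, Char.apply_one_eq_degree, h15, ha]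
    push_cast
    ring
  rw [hsum, inv_mul_eq_iff_eq_mul₀ (by norm_num)] at hk
  have hk' : (15 : ℤ) + a + 12 = 14 * k := by
    have h : (((15 : ℤ) + a + 12 : ℤ) : ℂ) = (((14 : ℤ) * k : ℤ) : ℂ) := by
      push_cast at hk ⊢
      linear_combination hk
    exact_mod_cast h
  rw [h15] at h4 hle
  have hlt : a.natAbs < 15 := by
    have := FivePairs.value_lt_degree hG hχne ht1 ha (by rw [Char.charDegree_eq_degree, h15]; exact hle)
    rwa [Char.charDegree_eq_degree, h15] at this
  have ha13 : a = -13 := by omega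
  subst ha13
  -- the squares at `t`
  have hθt : θ.1 t = ((σ * -12 : ℤ) : ℂ) := by
    have h := hrel t (by rw [IsPRegular, ht]; norm_num)
    rw [hTχ, Finset.sum_singleton, hz1, ha] at h
    rcases hσ with rfl | rfl <;> push_cast at h ⊢ <;>
      first | linear_combination h | linear_combination -h
  have hsq := FivePairs.sum_sq_le (t := t) ({Char.trivialChar G, χ, θ} : Finset (IrrCharacter G))
    (fun η => if η = χ then -13 else if η = θ then σ * -12 else 1) (fun η hη => by
      simp only [Finset.mem_insert, Finset.mem_singleton] at hη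
      rcases hη with rfl | rfl | rfl
      · rw [if_neg (Ne.symm hχne), if_neg (Ne.symm hθne), Char.trivialChar_apply]; norm_num
      · rw [if_pos rfl, ha]
      · rw [if_neg (fun (h : η = χ) => hθT (by rw [hTχ, h]; exact Finset.mem_singleton_self _)), if_pos rfl, hθt])
  have hθχ : θ ≠ χ := fun h => hθT (by rw [hTχ, h]; exact Finset.mem_singleton_self _)
  rw [Finset.sum_insert (by simp [Ne.symm hχne, Ne.symm hθne]), Finset.sum_pair (Ne.symm hθχ),
    if_neg (Ne.symm hχne), if_neg (Ne.symm hθne), if_pos rfl, if_neg hθχ, if_pos rfl] at hsq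
  set H := centralizer ({t} : Set G) with hH
  have hc314 : 314 ≤ Nat.card H := by
    have h314 : (314 : ℤ) ≤ (Nat.card H : ℤ) := by rcases hσ with rfl | rfl <;> linarith
    exact_mod_cast h314
  have h14 : 14 ∣ Nat.card H := by
    refine Nat.Coprime.mul_dvd_of_dvd_of_dvd (m := 2) (n := 7) (by norm_num) ?_ ?_
    · have := Subgroup.orderOf_dvd_natCard H (mem_centralizer_singleton_iff.2 rfl : t ∈ H)
      rwa [ht] at this
    · have := Subgroup.orderOf_dvd_natCard H (mem_centralizer_pair htC hyP : y ∈ H)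
      rwa [hy] at this
  have hidx := five_le_index hG (centralizer_singleton_ne_top hG ht1)
  rw [← hH] at hidx
  have hmul := Subgroup.card_mul_index H
  rw [hn] at hmul
  obtain ⟨s, b, f, h1, h2, h3, h4', h5, h6, h7, h8, h9, -⟩ :=
    exists_fixed_counts hG (centralizer_singleton_ne_top hG ht1) hy ht
      (show Commute y t from (htC y hyP))
  have h9' := h9 rfl
  rw [← hH] at h1 h2 h7 h8 h9'
  obtain ⟨q, hq⟩ := h14
  have hi : H.index ≤ 10 := by
    by_contra hc
    nlinarith
  generalize H.index = i at *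
  interval_cases i <;> omega

end Cfsg.Agent.SmallSimple.Below3640
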