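import Cfsg.Agent.Lib.SmallSimple.Below3640.Sweep
import Cfsg.Agent.Lib.SmallSimple.Below3640.CasesC
import Cfsg.Agent.S1016
import Cfsg.Agent.S1017
import Cfsg.Agent.S0496
import Cfsg.Agent.S0983

/-!
# The orders of non-abelian simple groups of order below 6000
-/

set_option autoImplicit false

namespace Cfsg.Agent.SmallSimple.Below3640

universe u

variable {G : Type u} [Group G] [Finite G] [IsSimpleGroup G]

theorem orders (hG : ¬ IsMulCommutative G) (h1 : 1092 < Nat.card G) (h : Nat.card G ≤ 3640) :
    Nat.card G = 2448 ∨ Nat.card G = 2520 ∨ Nat.card G = 3420 := by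
  have h' := mem_rest hG h1 h
  simp only [rest, List.mem_cons, List.not_mem_nil, or_false] at h'
  rcases h' with h' | h' | h' | h' | h' | h' | h' | h' | h' | h' | h' | h' | h' | h' | h' | h' | h' | h' | h' | h' | h' | h' | h' | h' | h' | h' | h' | h' <;>
    first
    | exact Or.inl h'
    | exact Or.inr (Or.inl h')
    | exact Or.inr (Or.inr h')
    | exact absurd h' (card_ne_1224 hG)
    | exact absurd h' (card_ne_1320 hG)
    | exact absurd h' (card_ne_1512 hG)
    | exact absurd h' (card_ne_1560 hG)
    | exact absurd h' (card_ne_1680 hG)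
    | exact absurd h' (card_ne_1716 hG)
    | exact absurd h' (card_ne_1800 hG)
    | exact absurd h' (card_ne_1980 hG)
    | exact absurd h' (card_ne_2100 hG)
    | exact absurd h' (card_ne_2160 hG)
    | exact absurd h' (card_ne_2184 hG)
    | exact absurd h' (card_ne_2280 hG)
    | exact absurd h' (card_ne_2400 hG)
    | exact absurd h' (card_ne_2880 hG)
    | exact absurd h' (card_ne_3024 hG)
    | exact absurd h' (card_ne_3120 hG)
    | exact absurd h' (card_ne_3168 hG)
    | exact absurd h' (card_ne_3240 hG)
    | exact absurd h' (card_ne_3360 hG)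
    | exact absurd h' (card_ne_3432 hG)
    | exact absurd h' (card_ne_3444 hG)
    | exact absurd h' (card_ne_3480 hG)
    | exact absurd h' (card_ne_3600 hG)
    | exact absurd h' S1016.result
    | exact absurd h' S1017.result

end Cfsg.Agent.SmallSimple.Below3640
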