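import Cfsg.Agent.Lib.SmallSimple.Below6233.Sweep

/-!
# The orders in `(1092, 3640]` left by the standard criteria
-/

set_option autoImplicit false
set_option linter.style.haveILetI false
set_option linter.unusedSectionVars false

namespace Cfsg.Agent.SmallSimple.Below3640

open Below6233 (lowPrimes prime_of_mem mem_or_lt isP prime_of_isP strip strip_spec twoP evenB minOne prq four opts
  bigDead false_of_opts false_of_bigDead)

universe u

/-- Orders dying at a prime of exponent one: `(n, p, m)` with `n = p m`. -/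
def certOne : List (ℕ × ℕ × ℕ) :=
  [ (1140, 5, 228), (1260, 7, 180), (1368, 19, 72), (1380, 23, 60), (1428, 17, 84), (1575, 7, 225),
    (1584, 11, 144), (1596, 19, 84), (1656, 23, 72), (1740, 5, 348), (1848, 11, 168), (1860, 31, 60),
    (1872, 13, 144), (1932, 23, 84), (2040, 17, 120), (2088, 29, 72), (2205, 5, 441), (2220, 37, 60),
    (2232, 31, 72), (2244, 17, 132), (2340, 13, 180), (2376, 11, 216), (2436, 29, 84),
    (2460, 41, 60), (2508, 19, 132), (2580, 43, 60), (2604, 31, 84), (2640, 11, 240),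
    (2652, 17, 156), (2664, 37, 72), (2736, 19, 144), (2760, 23, 120), (2772, 11, 252),
    (2808, 13, 216), (2820, 47, 60), (2856, 17, 168), (2925, 13, 225), (2940, 5, 588),
    (2952, 41, 72), (2964, 19, 156), (3036, 23, 132), (3060, 17, 180), (3080, 7, 440),
    (3096, 43, 72), (3108, 37, 84), (3180, 53, 60), (3192, 19, 168), (3276, 13, 252),
    (3300, 11, 300), (3312, 23, 144), (3384, 47, 72), (3465, 11, 315), (3540, 59, 60),
    (3588, 23, 156), (3612, 43, 84), (3640, 13, 280)]

/-- Orders dying at a prime of exponent at least two: `(n, p, e, m)` with `n = p ^ e m`. -/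
def certBig : List (ℕ × ℕ × ℕ × ℕ) :=
  [ (1176, 7, 2, 24), (1200, 5, 2, 48), (1400, 5, 2, 56), (1960, 7, 2, 40), (2352, 7, 2, 48),
    (2475, 5, 2, 99), (2800, 5, 2, 112), (2904, 11, 2, 24), (3000, 5, 3, 24), (3528, 7, 2, 72)]

/-- The orders not settled by the criteria. -/
def rest : List ℕ :=
  [ 1224, 1320, 1440, 1512, 1560, 1680, 1716, 1800, 1980, 2016, 2100, 2160, 2184, 2280, 2400, 2448,
    2520, 2880, 3024, 3120, 3168, 3240, 3360, 3420, 3432, 3444, 3480, 3600]

theorem certOne_ok : ∀ q ∈ certOne, (decide (q.1 = q.2.1 * q.2.2 ∧ q.2.2 % q.2.1 ≠ 0 ∧ q.2.1 % 2 = 1) &&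
    isP q.2.1 && decide (opts q.2.1 q.1 q.2.2 = [])) = true := by
  decide +kernel

theorem certBig_ok : ∀ q ∈ certBig, (decide (q.1 = q.2.1 ^ q.2.2.1 * q.2.2.2 ∧ q.2.2.2 % q.2.1 ≠ 0 ∧
    2 ≤ q.2.2.1) && isP q.2.1 && bigDead q.2.1 q.1 q.2.2.1 q.2.2.2) = true := by
  decide +kernel

/-- One of the criteria applies. -/
def settled (n : ℕ) : Bool :=
  evenB n || minOne n || twoP n || isP n || four n || prq n || (certOne.any fun q => decide (q.1 = n)) ||
    (certBig.any fun q => decide (q.1 = n)) || decide (n ∈ rest)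

theorem sweep : ∀ i ∈ List.range 2548, settled (1093 + i) = true := by
  decide +kernel

variable {G : Type u} [Group G] [Finite G] [IsSimpleGroup G]

theorem mem_rest (hG : ¬ IsMulCommutative G) (h1 : 1092 < Nat.card G) (h : Nat.card G ≤ 3640) :
    Nat.card G ∈ rest := by
  have hns : ¬ (Nat.card G).Prime := fun hp => hG (by
    haveI := Fact.mk hp
    haveI : IsCyclic G := isCyclic_of_prime_card rfl
    exact IsCyclic.isMulCommutative)
  have htwo : ∀ {q r a b : ℕ}, q.Prime → r.Prime → Nat.card G ≠ q ^ a * r ^ b :=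
    fun hq hr he => false_of_two_primes hq hr he hns
  have hs := sweep (Nat.card G - 1093) (List.mem_range.2 (by omega))
  rw [show 1093 + (Nat.card G - 1093) = Nat.card G by omega] at hs
  simp only [settled, Bool.or_eq_true, decide_eq_true_eq] at hs
  rcases hs with (((((((hs | hs) | hs) | hs) | hs) | hs) | hs) | hs) | hs
  · exfalso
    simp only [evenB, decide_eq_true_eq] at hs
    rcases Cfsg.Agent.S0499.result hG (Nat.even_iff.2 hs.1) with h' | h' | h' <;>
      have := Nat.mod_eq_zero_of_dvd h' <;> omega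
  · exfalso
    simp only [minOne, List.any_eq_true, Bool.and_eq_true, decide_eq_true_eq, List.all_eq_true] at hs
    obtain ⟨q, hq, ⟨hd, h1', hm⟩, hall⟩ := hs
    have hmul := (Nat.mul_div_cancel' (Nat.dvd_of_mod_eq_zero hd)).symm
    refine false_of_min_exponent_one (prime_of_mem hq) hmul h1' fun r hr hrd => ?_
    have hne : r ≠ q := by
      rintro rfl
      exact hm (Nat.mod_eq_zero_of_dvd hrd)
    have hrG : r ∣ Nat.card G := hmul ▸ dvd_mul_of_dvd_right hrd q
    rcases mem_or_lt hr with hmem | hbig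
    · rcases hall r hmem with h' | h'
      · omega
      · exact absurd (Nat.mod_eq_zero_of_dvd hrG) h'
    · simp only [lowPrimes, List.mem_cons, List.not_mem_nil, or_false] at hq
      omega
  · exfalso
    simp only [twoP, List.any_eq_true, Bool.and_eq_true, Bool.or_eq_true, decide_eq_true_eq] at hs
    obtain ⟨q, hq, -, (hs | hs) | ⟨r, hr, hs⟩⟩ := hs
    · have hspec := strip_spec q 13 (Nat.card G)
      rw [hs] at hspec
      exact htwo (q := q) (a := (strip q 13 (Nat.card G)).1) (prime_of_mem hq) Nat.prime_two (b := 0)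
        (by rw [pow_zero]; exact hspec)
    · exact htwo (q := q) (a := (strip q 13 (Nat.card G)).1) (prime_of_mem hq) (prime_of_isP hs) (b := 1)
        (by rw [pow_one]; exact strip_spec q 13 _)
    · have hspec := strip_spec q 13 (Nat.card G)
      have h2 := strip_spec r 13 (strip q 13 (Nat.card G)).2
      rw [hs, mul_one] at h2
      rw [h2] at hspec
      exact htwo (prime_of_mem hq) (prime_of_mem hr) hspec
  · exact absurd (prime_of_isP hs) hns
  · exfalso
    haveI := Fintype.ofFinite G
    simp only [four, List.any_eq_true, Bool.and_eq_true, Bool.or_eq_true, decide_eq_true_eq] at hs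
    obtain ⟨p, hp, ⟨h4, hp2, -⟩, h⟩ := hs
    have hspec := strip_spec p 13 (Nat.card G / 4)
    have hcard := Nat.mul_div_cancel' (Nat.dvd_of_mod_eq_zero h4)
    rcases h with ⟨⟨hq2, hqp⟩, hs⟩ | ⟨q, hq, hq2, hqp, hs⟩
    · rw [hspec, ← mul_assoc, ← pow_one (strip p 13 (Nat.card G / 4)).2] at hcard
      have := SmallCofactor.card_eq_sixty_of_four hG (prime_of_mem hp) (prime_of_isP hs) hp2 hq2 hqp.symm
        hcard.symm
      omega
    · have h2 := strip_spec q 13 (strip p 13 (Nat.card G / 4)).2
      rw [hs, mul_one] at h2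
      rw [h2] at hspec
      rw [hspec, ← mul_assoc] at hcard
      have := SmallCofactor.card_eq_sixty_of_four hG (prime_of_mem hp) (prime_of_mem hq) hp2 hq2 hqp.symm
        hcard.symm
      omega
  · simp only [prq, List.any_eq_true, Bool.and_eq_true, decide_eq_true_eq] at hs
    obtain ⟨q, hq, r, hr, ⟨-, hd, hrq, hlt, hpq⟩, hp⟩ := hs
    have hspec := strip_spec q 13 (Nat.card G)
    set s := (strip q 13 (Nat.card G)).2
    have hcard : Nat.card G = s / r * r * q ^ (strip q 13 (Nat.card G)).1 := by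
      rw [Nat.div_mul_cancel (Nat.dvd_of_mod_eq_zero hd), mul_comm]
      exact hspec
    have hnc : ¬ IsCyclic G := fun hc => hG IsCyclic.isMulCommutative
    rcases PRQPow.card_eq hnc (prime_of_isP hp) (prime_of_mem hr) (prime_of_mem hq) hlt hpq hrq hcard
      with ⟨-, h'⟩ | ⟨-, h'⟩
    · omega
    · omega
  · exfalso
    simp only [List.any_eq_true, decide_eq_true_eq] at hs
    obtain ⟨⟨n, p, m⟩, hmem, hn⟩ := hs
    have hok := certOne_ok _ hmem
    simp only [Bool.and_eq_true, decide_eq_true_eq] at hok hn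
    obtain ⟨⟨⟨hnm, hm, hodd⟩, hp⟩, ho⟩ := hok
    haveI := Fact.mk (prime_of_isP hp)
    exact false_of_opts hG (Nat.odd_iff.2 hodd) hn.symm hnm
      (fun h' => hm (Nat.mod_eq_zero_of_dvd h')) ho
  · exfalso
    simp only [List.any_eq_true, decide_eq_true_eq] at hs
    obtain ⟨⟨n, p, e, m⟩, hmem, hn⟩ := hs
    have hok := certBig_ok _ hmem
    simp only [Bool.and_eq_true, decide_eq_true_eq] at hok hn
    obtain ⟨⟨⟨hnm, hm, he⟩, hp⟩, hb⟩ := hok
    haveI := Fact.mk (prime_of_isP hp)
    exact false_of_bigDead hG hn.symm hnm he (fun h' => hm (Nat.mod_eq_zero_of_dvd h')) hb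
  · exact hs

end Cfsg.Agent.SmallSimple.Below3640
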